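import Cfsg.Agent.Lib.Sporadic.Fi22Out.Sym
import Cfsg.Agent.Lib.Sporadic.OutCert.Out

/-!
The outer automorphism group of Fi22 has order two.
-/

set_option autoImplicit false
set_option maxRecDepth 100000

open Cfsg.Spor

namespace CfsgLib.Sporadic.CosetCert.FiP.OutFi22

open FiData (table)

attribute [local irreducible] PTab.img

theorem nW_lt : ∀ x ∈ nW, x < 9 := by decide

theorem invW_lt : ∀ x ∈ invW, x < 9 := by decide

theorem conj_n : el nW * T * (el nW)⁻¹ = T ^ 4 := by
  rw [← el_tPow, ← el_reverse nW_lt, T, mul_assoc, ← el_append, ← el_append]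
  refine eq_of_sameK ?_ (tPow_lt 4) (by decide +kernel)
  intro x hx
  rcases List.mem_append.1 hx with hx | hx
  · rcases List.mem_append.1 hx with hx | hx
    · exact nW_lt x (List.mem_reverse.1 hx)
    · exact tW_lt x hx
  · exact nW_lt x hx

theorem conj_sym : el invW * sym T * (el invW)⁻¹ = T ^ 10 := by
  rw [← el_tPow, ← el_reverse invW_lt, T, sym_el tW tW_lt, mul_assoc, ← el_append, ← el_append]
  refine eq_of_sameK ?_ (tPow_lt 10) (by decide +kernel)
  intro x hx
  rcases List.mem_append.1 hx with hx | hx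
  · rcases List.mem_append.1 hx with hx | hx
    · exact invW_lt x (List.mem_reverse.1 hx)
    · obtain ⟨y, hy, rfl⟩ := List.mem_map.1 hx
      exact sym_letters_lt y (tW_lt y hy)
  · exact invW_lt x hx

theorem conj_n_pow (j : ℕ) : ∀ k : ℕ, el nW ^ k * T ^ j * (el nW ^ k)⁻¹ = T ^ (4 ^ k * j) := by
  intro k
  induction k with
  | zero => simp
  | succ k ih =>
    calc el nW ^ (k + 1) * T ^ j * (el nW ^ (k + 1))⁻¹
        = el nW * (el nW ^ k * T ^ j * (el nW ^ k)⁻¹) * (el nW)⁻¹ := by rw [pow_succ']; group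
      _ = (el nW * T * (el nW)⁻¹) ^ (4 ^ k * j) := by rw [ih, conj_pow]
      _ = T ^ (4 ^ (k + 1) * j) := by rw [conj_n, ← pow_mul]; ring_nf

theorem residues : ∀ j < 11, 0 < j → ∃ k < 5, 4 ^ k * j % 11 = 1 ∨ 4 ^ k * j % 11 = 10 := by decide

/-- An automorphism fixing the element of order eleven is inner. -/
theorem inner_of_fix {β : MulAut Fi22} (hT : β T = T) : β ∈ Cfsg.Inn Fi22 := by
  have h1 : Commute (β (dp pt)) T := by
    have := (T_comm.map β.toMonoidHom).symm
    simp only [MulEquiv.coe_toMonoidHom, hT] at this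
    exact this
  have h0 : Corr β pt pt := involution_cent h1 (by rw [← map_mul, dp_sq, map_one]) (by
    rw [Ne, EmbeddingLike.map_eq_one_iff]
    exact dp_ne_one _)
  obtain ⟨i, hi | hi⟩ := core hT h0 <;> exact ⟨_, hi.symm⟩

theorem aut_cases (α : MulAut Fi22) : α ∈ Cfsg.Inn Fi22 ∨ sym * α ∈ Cfsg.Inn Fi22 := by
  have := finite
  have : Fact (Nat.Prime 11) := ⟨by norm_num⟩
  have h11 : ¬ 11 ^ 2 ∣ Nat.card Fi22 := by rw [card_eq.1]; norm_num
  obtain ⟨g, j, hj0, hj11, hg⟩ := OutCert.exists_conj_pow h11 orderOf_T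
    ((MulEquiv.orderOf_eq α T).trans orderOf_T)
  obtain ⟨k, -, hk⟩ := residues j hj11 hj0
  let β : MulAut Fi22 := MulAut.conj (el nW ^ k * g) * α
  have hβT : β T = T ^ (4 ^ k * j % 11) := by
    show MulAut.conj (el nW ^ k * g) (α T) = _
    rw [T_pow_mod, ← conj_n_pow, ← hg, MulAut.conj_apply]
    group
  rcases hk with hk | hk <;> rw [hk] at hβT
  · left
    have := inner_of_fix (β := β) (by rw [hβT, pow_one])
    have h2 := mul_mem (inv_mem (⟨el nW ^ k * g, rfl⟩ : MulAut.conj (el nW ^ k * g) ∈ Cfsg.Inn Fi22)) this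
    rwa [show (MulAut.conj (el nW ^ k * g))⁻¹ * β = α from inv_mul_cancel_left _ _] at h2
  · right
    have := inner_of_fix (β := MulAut.conj (el invW) * sym * β) (by
      show MulAut.conj (el invW) (sym (β T)) = T
      rw [hβT, map_pow, map_pow, MulAut.conj_apply, conj_sym, ← pow_mul, ← T_pow_mod]
      norm_num)
    have h2 : sym * β ∈ Cfsg.Inn Fi22 := by
      have h3 := mul_mem (inv_mem (⟨el invW, rfl⟩ : MulAut.conj (el invW) ∈ Cfsg.Inn Fi22)) this
      rwa [mul_assoc (MulAut.conj (el invW)), inv_mul_cancel_left] at h3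
    have h4 : sym * MulAut.conj (el nW ^ k * g) * sym⁻¹ ∈ Cfsg.Inn Fi22 :=
      (Cfsg.innNormal Fi22).conj_mem _ ⟨_, rfl⟩ sym
    have h5 := mul_mem (inv_mem h4) h2
    rwa [show (sym * MulAut.conj (el nW ^ k * g) * sym⁻¹)⁻¹ * (sym * β) = sym * α by
      simp only [β]; group] at h5

theorem card_out : Nat.card (Cfsg.Out Fi22) = 2 := by
  rw [Nat.card_eq_two_iff]
  refine ⟨1, QuotientGroup.mk sym, fun e => sym_not_inner ((QuotientGroup.eq_one_iff sym).1 e.symm),
    Set.eq_univ_of_forall fun x => ?_⟩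
  obtain ⟨α, rfl⟩ := QuotientGroup.mk_surjective x
  rcases aut_cases α with h | h
  · exact Or.inl ((QuotientGroup.eq_one_iff α).2 h)
  · refine Or.inr (show _ = _ from ?_)
    have hs : sym⁻¹ = sym := MulEquiv.ext fun _ => rfl
    exact ((QuotientGroup.eq (s := Cfsg.Inn Fi22)).2 (by rw [hs]; exact h)).symm

end CfsgLib.Sporadic.CosetCert.FiP.OutFi22
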