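import Cfsg.Agent.Lib.Sporadic.Fi22Out.Defs

/-!
The candidates.
-/

set_option autoImplicit false
set_option maxRecDepth 100000
set_option maxHeartbeats 0

namespace CfsgLib.Sporadic.CosetCert.FiP.OutFi22

theorem scan_ok : scanK = true := by decide +kernel
theorem cand_ok : candK = true := by decide +kernel
theorem rep_ok : repK = true := by decide +kernel

end CfsgLib.Sporadic.CosetCert.FiP.OutFi22
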