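import Cfsg.Agent.Lib.Sporadic.Fi22Out.CheckFix
import Cfsg.Agent.Lib.Sporadic.Fi22Out.CheckScan
import Cfsg.Agent.Lib.Sporadic.Fi22Out.CheckOrbits
import Cfsg.Agent.Lib.Sporadic.Fi22Out.CheckTests
import Cfsg.Agent.Lib.Sporadic.Fi22Out.CheckSym
import Cfsg.Agent.Lib.Sporadic.Fi22Out.CheckCount

/-!
The checks hold.
-/
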