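import Cfsg.Agent.Lib.Sporadic.Fi22Out.Points

/-!
An automorphism of Fi22 fixing the first generator and the element of order eleven is inner.
-/

set_option autoImplicit false
set_option maxRecDepth 100000

open Cfsg.Spor

namespace CfsgLib.Sporadic.CosetCert.FiP.OutFi22

open FiData (table)

attribute [local irreducible] PTab.img

theorem tW_lt : ∀ x ∈ tW, x < 9 := by decide

theorem tPow_lt (i : ℕ) : ∀ x ∈ tPow i, x < 9 := by
  intro x hx
  obtain ⟨l, hl, hx⟩ := List.mem_flatten.1 hx
  rw [List.eq_of_mem_replicate hl] at hx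
  exact tW_lt x hx

/-- The element of order eleven. -/
noncomputable def T : Fi22 := el tW

theorem el_tPow (i : ℕ) : el (tPow i) = T ^ i := by
  induction i with
  | zero => exact el_nil
  | succ i ih =>
    rw [tPow, List.replicate_succ, List.flatten_cons, el_append]
    show el (tPow i) * T = _
    rw [ih, pow_succ]

theorem T_pow11 : T ^ 11 = 1 := by
  rw [← el_tPow, ← el_nil]
  exact eq_of_sameK (tPow_lt 11) (by simp) (by decide +kernel)

theorem T_ne_one : T ≠ 1 := by
  intro e
  have h := congrArg (fun g => ((hom g (gpt 1) : Fin table.N) : ℕ)) e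
  simp only [T, el_img tW_lt, map_one, Equiv.Perm.one_apply, gpt_val (show 1 < 9 by norm_num)] at h
  revert h
  decide +kernel

theorem orderOf_T : orderOf T = 11 := by
  have : Fact (Nat.Prime 11) := ⟨by norm_num⟩
  exact orderOf_eq_prime T_pow11 T_ne_one

theorem T_pow_mod (k : ℕ) : T ^ (k % 11) = T ^ k := by rw [← orderOf_T, pow_mod_orderOf]

theorem T_fix_pt : hom T pt = pt := by
  refine Fin.ext ?_
  rw [T, el_img tW_lt]
  show table.imgW tW 0 = 0
  decide +kernel

theorem T_comm : Commute T (dp pt) := comm_of_fix T_fix_pt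

theorem fixT {v : Fin table.N} (h : hom T v = v) : v = pt := by
  have hK := List.all_eq_true.1 fixT_ok v.1 (List.mem_range.2 v.2)
  rw [Nat.beq_eq.mpr (show table.imgW tW v = v by rw [← el_img tW_lt]; exact congrArg Fin.val h)] at hK
  simp only [Bool.not_true, Bool.false_or] at hK
  exact Fin.ext (Nat.eq_of_beq_eq_true hK)

/-- The automorphism sends the transposition of the first point to that of the second. -/
def Corr (β : MulAut Fi22) (u v : Fin table.N) : Prop := β (dp u) = dp v

theorem Corr.apply {β : MulAut Fi22} {u v : Fin table.N} (h : Corr β u v) (g : Fi22) :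
    Corr β (hom g u) (hom (β g) v) := by
  show β _ = _
  rw [← conj_dp, ← conj_dp, map_mul, map_mul, map_inv, h]

theorem Corr.inj {β : MulAut Fi22} {u u' v : Fin table.N} (h : Corr β u v) (h' : Corr β u' v) : u = u' :=
  dp_injective (β.injective (h.trans h'.symm))

theorem Corr.unique {β : MulAut Fi22} {u v v' : Fin table.N} (h : Corr β u v) (h' : Corr β u v') : v = v' :=
  dp_injective (h.symm.trans h')

theorem Corr.dp_fix {β : MulAut Fi22} {a a' b b' : Fin table.N} (ha : Corr β a a') (hb : Corr β b b') :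
    hom (dp a) b = b ↔ hom (dp a') b' = b' := by
  have h := hb.apply (dp a)
  rw [ha] at h
  constructor
  · intro e
    rw [e] at h
    exact h.unique hb
  · intro e
    rw [e] at h
    exact h.inj hb

theorem conj_eq_one {g : Fi22} (h : ∀ x, g * x * g⁻¹ = x) : g = 1 :=
  eq_one_of_fix fun x _ => dp_injective (by rw [← conj_dp, h])

theorem testBit_foldr {α : Type*} (f : α → ℕ) (L : List α) (v : ℕ) :
    Nat.testBit (L.foldr (fun a acc => Nat.lor (f a) acc) 0) v = true →
      ∃ a ∈ L, Nat.testBit (f a) v = true := by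
  induction L with
  | nil => simp
  | cons a L ih =>
    intro h
    rw [List.foldr_cons] at h
    change Nat.testBit (f a ||| _) v = true at h
    rw [Nat.testBit_or, Bool.or_eq_true] at h
    rcases h with h | h
    · exact ⟨a, List.mem_cons_self, h⟩
    · obtain ⟨b, hb, hb'⟩ := ih h
      exact ⟨b, List.mem_cons_of_mem _ hb, hb'⟩

theorem cand_spec {v : Fin table.N} (h : hom (dp pt) v ≠ v) :
    ∃ r ∈ reps, ∃ i, ∃ hr : r.1 < table.N, hom (T ^ i) ⟨r.1, hr⟩ = v := by
  have hK := List.all_eq_true.1 scan_ok v.1 (List.mem_range.2 v.2)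
  rw [Bool.or_eq_true] at hK
  have h' : Nat.testBit candB v = true := hK.resolve_left fun e => h (Fin.ext (by
    rw [dp_pt, ← el_single, el_img (by simp)]
    exact Nat.eq_of_beq_eq_true e))
  rw [← Nat.eq_of_beq_eq_true cand_ok] at h'
  obtain ⟨o, ho, h'⟩ := testBit_foldr bitsOf repOrbits v h'
  obtain ⟨p, hp, h'⟩ := testBit_foldr (fun p => Nat.shiftLeft 1 p) o v h'
  change Nat.testBit (1 <<< p) v = true at h'
  rw [Nat.one_shiftLeft, Nat.testBit_two_pow, decide_eq_true_eq] at h'
  subst h'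
  obtain ⟨k, hk, rfl⟩ := List.mem_iff_getElem.1 ho
  obtain ⟨i, hi, hiv⟩ := List.mem_iff_getElem.1 hp
  have hO := orbit_ok
  simp only [orbitK, Bool.and_eq_true, List.all_eq_true, List.mem_range] at hO
  obtain ⟨⟨hlen, h0⟩, hstep⟩ := hO.2 k hk
  simp only [List.getD_eq_getElem _ _ hk] at hlen h0 hstep
  have hk' : k < reps.length := Nat.eq_of_beq_eq_true hO.1 ▸ hk
  rw [List.getD_eq_getElem _ _ hk'] at h0
  have hlt : (reps[k]).1 < table.N := by
    have := List.all_eq_true.1 rep_ok _ (List.getElem_mem hk')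
    rw [Bool.and_eq_true] at this
    exact Nat.le_of_ble_eq_true this.1
  have key : ∀ i < 11, ((hom (T ^ i) ⟨(reps[k]).1, hlt⟩ : Fin table.N) : ℕ) = (repOrbits[k]).getD i 3510 := by
    intro i
    induction i with
    | zero =>
      intro _
      rw [pow_zero, map_one, Equiv.Perm.one_apply]
      exact (Nat.eq_of_beq_eq_true h0).symm
    | succ i ih =>
      intro hi'
      refine Eq.trans ?_ (Nat.eq_of_beq_eq_true (hstep i (by omega)))
      rw [pow_succ', map_mul, Equiv.Perm.mul_apply, T, el_img tW_lt]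
      rw [T] at ih
      exact congrArg (table.imgW tW) (ih (by omega))
  refine ⟨_, List.getElem_mem hk', i, hlt, Fin.ext ?_⟩
  exact (key i ((Nat.eq_of_beq_eq_true hlen) ▸ hi)).trans ((List.getD_eq_getElem _ _ hi).trans hiv)

/-- The chosen point. -/
noncomputable def sp : Fin table.N := ⟨sepPt, by decide +kernel⟩

theorem sp_ne : hom (dp pt) sp ≠ sp := by
  intro e
  have h := congrArg Fin.val e
  rw [dp_pt, ← el_single, el_img (by simp)] at h
  revert h
  show table.imgW [0] sepPt = sepPt → False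
  decide +kernel

theorem sp_partner (h : partner < table.N) : hom (dp pt) ⟨partner, h⟩ = sp := by
  refine Fin.ext ?_
  rw [dp_pt, ← el_single, el_img (by simp)]
  show table.imgW [0] partner = sepPt
  decide +kernel

theorem sp_spec : hom (dp sp) (hom (T ^ 2) sp) = hom (T ^ 2) sp ∧
    hom (dp sp) (hom (dp pt) (hom (T ^ 4) sp)) = hom (dp pt) (hom (T ^ 4) sp) ∧
    hom (dp sp) (hom (T ^ 5) (hom (dp sp) (hom T sp))) ≠ hom (T ^ 5) (hom (dp sp) (hom T sp)) := by
  have hK := self_ok
  simp only [selfK, Bool.and_eq_true, List.any_eq_true, List.all_eq_true] at hK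
  obtain ⟨hall, r, hr, e⟩ := hK
  have h := hall r hr
  rw [e] at h
  have hh := (Bool.and_eq_true_iff.1 (List.all_eq_true.1 rep_ok r hr)).2
  have he : r.1 = sepPt := Nat.eq_of_beq_eq_true e
  rw [he] at h hh
  have hw : dp sp = el (fullWord r.2) := dp_of_half (p := sp) hh
  have hwl := fullWord_lt hh
  simp only [Bool.not_true, Bool.false_or, testK, Bool.and_eq_true] at h
  obtain ⟨⟨ha, hb⟩, hc⟩ := h
  refine ⟨Fin.ext ?_, Fin.ext ?_, fun ec => ?_⟩
  · rw [hw, el_img hwl, ← el_tPow, el_img (tPow_lt 2)]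
    exact Nat.eq_of_beq_eq_true ha
  · rw [hw, el_img hwl, dp_pt, ← el_single, el_img (by simp), ← el_tPow, el_img (tPow_lt 4)]
    exact Nat.eq_of_beq_eq_true hb
  · have hc' := congrArg Fin.val ec
    rw [show T = el (tPow 1) by rw [el_tPow, pow_one]] at hc'
    rw [show el (tPow 1) ^ 5 = el (tPow 5) by rw [el_tPow, el_tPow, pow_one]] at hc'
    simp only [hw, el_img hwl, el_img (tPow_lt _)] at hc'
    change table.imgW (fullWord r.2) _ = _ at hc'
    simp only [sp] at hc'
    rw [Nat.beq_eq.mpr hc'] at hc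
    exact Bool.false_ne_true hc

theorem fixes_gens {β : MulAut Fi22} (hT : β T = T) (h0 : Corr β pt pt) (hs : Corr β sp sp) :
    ∀ x < 9, Corr β (gpt x) (gpt x) := by
  have hK := clos_ok
  simp only [closK, Bool.and_eq_true, List.all_eq_true, List.mem_range] at hK
  obtain ⟨⟨⟨hz, h11⟩, hder⟩, h9⟩ := hK
  have hlt : ∀ m < closPts.length, closPts.getD m 3510 < table.N := by decide +kernel
  have hlen : closPts.length = 12 + closDer.length := by decide +kernel
  have key : ∀ m, ∀ (hm : m < closPts.length), Corr β ⟨_, hlt m hm⟩ ⟨_, hlt m hm⟩ := by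
    intro m
    induction m using Nat.strong_induction_on with
    | _ m ih =>
      intro hm
      rcases Nat.eq_zero_or_pos m with rfl | h
      · have e : (⟨_, hlt 0 hm⟩ : Fin table.N) = pt := Fin.ext (Nat.eq_of_beq_eq_true hz)
        rw [e]; exact h0
      rcases lt_or_ge m 12 with h' | h'
      · obtain ⟨i, rfl⟩ : ∃ i, m = 1 + i := ⟨m - 1, by omega⟩
        have e : (⟨_, hlt _ hm⟩ : Fin table.N) = hom (T ^ i) sp := Fin.ext (by
          rw [← el_tPow, el_img (tPow_lt i)]
          exact Nat.eq_of_beq_eq_true (h11 i (by omega)))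
        have := hs.apply (T ^ i)
        rw [map_pow β, hT] at this
        rw [e]; exact this
      · obtain ⟨n, rfl⟩ : ∃ n, m = 12 + n := ⟨m - 12, by omega⟩
        obtain ⟨⟨⟨ha, hb⟩, hh⟩, he⟩ := hder n (by omega)
        generalize closDer.getD n (closPts.length, closPts.length) = d at ha hb hh he
        have ha' : d.1 < 12 + n := Nat.le_of_ble_eq_true ha
        have hb' : d.2 < 12 + n := Nat.le_of_ble_eq_true hb
        have e : (⟨_, hlt _ hm⟩ : Fin table.N) =
            hom (dp ⟨_, hlt d.1 (by omega)⟩) ⟨_, hlt d.2 (by omega)⟩ := Fin.ext (by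
          rw [dp_of_half (p := ⟨_, hlt d.1 (by omega)⟩) hh, el_img (fullWord_lt hh)]
          exact (Nat.eq_of_beq_eq_true he).symm)
        have := (ih d.2 hb' (by omega)).apply (dp ⟨_, hlt d.1 (by omega)⟩)
        rw [ih d.1 ha' (by omega)] at this
        rw [e]; exact this
  intro x hx
  obtain ⟨h1, h2⟩ := h9 x hx
  have hg : genIx.getD x closPts.length < closPts.length := Nat.le_of_ble_eq_true h1
  have e : (⟨_, hlt _ hg⟩ : Fin table.N) = gpt x := Fin.ext (by
    rw [gpt_val hx]
    exact Nat.eq_of_beq_eq_true h2)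
  exact e ▸ key _ hg

theorem eq_one_of_gens {β : MulAut Fi22} (h : ∀ x < 9, Corr β (gpt x) (gpt x)) : β = 1 := by
  have := hom_ext (f := β.toMonoidHom) (g := MonoidHom.id Fi22) fun x hx => by
    show β (coding.gen x) = coding.gen x
    rw [gen_eq_dp x hx]
    exact h x hx
  exact MulEquiv.ext fun a => DFunLike.congr_fun this a

/-- The possible inner automorphisms. -/
theorem core {β : MulAut Fi22} (hT : β T = T) (h0 : Corr β pt pt) :
    ∃ i : ℕ, β = MulAut.conj (T ^ i) ∨ β = MulAut.conj (T ^ i * dp pt) := by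
  obtain ⟨c, hc⟩ := transitive sp
  have hs : Corr β sp (hom (β c) pt) := hc ▸ h0.apply c
  obtain ⟨sA, sB, sC⟩ := sp_spec
  generalize hom (β c) pt = v at hs
  obtain ⟨r, hr, i, hlt, hi⟩ := cand_spec fun e => sp_ne ((h0.dp_fix hs).2 e)
  let γ : MulAut Fi22 := (MulAut.conj (T ^ i))⁻¹ * β
  have hγ : ∀ g, γ g = (T ^ i)⁻¹ * β g * T ^ i := fun g => by
    show (MulAut.conj (T ^ i))⁻¹ (β g) = _
    rw [MulAut.conj_inv_apply]
  have γT : γ T = T := by
    rw [hγ, hT, mul_assoc, (Commute.self_pow T i).eq, inv_mul_cancel_left]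
  have γ0 : Corr γ pt pt := by
    show γ _ = _
    rw [hγ, h0, mul_assoc, ((T_comm).pow_left i).eq.symm, inv_mul_cancel_left]
  have γs : Corr γ sp ⟨r.1, hlt⟩ := by
    show γ _ = _
    rw [hγ, hs, ← hi, ← conj_dp]
    group
  have γpow : ∀ k, γ (T ^ k) = el (tPow k) := fun k => by rw [map_pow, γT, el_tPow]
  have hh := (Bool.and_eq_true_iff.1 (List.all_eq_true.1 rep_ok r hr)).2
  have hw : dp ⟨r.1, hlt⟩ = el (fullWord r.2) := dp_of_half hh
  have hwl := fullWord_lt hh
  have tA := (γs.dp_fix (γs.apply (T ^ 2))).1 sA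
  rw [γpow, hw] at tA
  have tB := (γs.dp_fix ((γs.apply (T ^ 4)).apply (dp pt))).1 sB
  rw [γpow, γ0, hw, dp_pt, ← el_single] at tB
  have tC := mt (γs.dp_fix (((γs.apply T).apply (dp sp)).apply (T ^ 5))).2 sC
  rw [γs, show γ T = el (tPow 1) by rw [γT, el_tPow, pow_one], γpow, hw] at tC
  have htest : testK r.1 (fullWord r.2) = true := by
    have a := congrArg Fin.val tA
    have b := congrArg Fin.val tB
    simp only [el_img hwl, el_img (tPow_lt _), el_img (show ∀ x ∈ [0], x < 9 by simp)] at a b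
    simp only [testK, Bool.and_eq_true]
    refine ⟨⟨Nat.beq_eq.mpr a, Nat.beq_eq.mpr b⟩, ?_⟩
    rw [Bool.not_eq_true', Bool.eq_false_iff]
    intro e
    refine tC (Fin.ext ?_)
    simp only [el_img hwl, el_img (tPow_lt _)]
    exact Nat.eq_of_beq_eq_true e
  have hu := List.all_eq_true.1 unique_ok r hr
  rw [htest] at hu
  simp only [Bool.not_true, Bool.false_or, Bool.or_eq_true] at hu
  rcases hu with hu | hu
  · have hrs : (⟨r.1, hlt⟩ : Fin table.N) = sp := Fin.ext (Nat.eq_of_beq_eq_true hu)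
    rw [hrs] at γs
    exact ⟨i, Or.inl (inv_mul_eq_one.1 (eq_one_of_gens (fixes_gens γT γ0 γs))).symm⟩
  · let δ : MulAut Fi22 := MulAut.conj (dp pt) * γ
    have hδ : ∀ g, δ g = dp pt * γ g * (dp pt)⁻¹ := fun g => rfl
    have δT : δ T = T := by rw [hδ, γT, T_comm.symm.eq, mul_inv_cancel_right]
    have δ0 : Corr δ pt pt := by
      show δ _ = _
      rw [hδ, γ0, mul_inv_cancel_right]
    have δs : Corr δ sp sp := by
      have hrp : r.1 = partner := Nat.eq_of_beq_eq_true hu
      show δ _ = _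
      rw [hδ, γs, conj_dp, ← sp_partner (hrp ▸ hlt)]
      exact congrArg (fun q => dp (hom (dp pt) q)) (Fin.ext hrp)
    have h1 := eq_one_of_gens (fixes_gens δT δ0 δs)
    refine ⟨i, Or.inr ?_⟩
    have h2 : γ = MulAut.conj (dp pt) := by
      rw [eq_inv_of_mul_eq_one_right h1, ← map_inv, inv_eq_of_mul_eq_one_right (dp_sq pt)]
    rw [map_mul, ← h2]
    show β = MulAut.conj (T ^ i) * ((MulAut.conj (T ^ i))⁻¹ * β)
    rw [mul_inv_cancel_left]

theorem involution_cent {x : Fi22} (hc : Commute x T) (h2 : x * x = 1) (hne : x ≠ 1) : x = dp pt := by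
  have hfix : hom x pt = pt := fixT (by
    rw [← Equiv.Perm.mul_apply, ← map_mul, ← hc.eq, map_mul, Equiv.Perm.mul_apply, T_fix_pt])
  obtain ⟨i, hi⟩ := core (β := MulAut.conj x)
    (by rw [MulAut.conj_apply, hc.eq, mul_inv_cancel_right])
    (by show MulAut.conj x _ = _; rw [MulAut.conj_apply, conj_dp, hfix])
  have hinj : ∀ y, MulAut.conj x = MulAut.conj y → x = y := fun y e => by
    refine (inv_mul_eq_one.1 (conj_eq_one (g := y⁻¹ * x) fun z => ?_)).symm
    have hz : x * z * x⁻¹ = y * z * y⁻¹ := DFunLike.congr_fun e z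
    calc y⁻¹ * x * z * (y⁻¹ * x)⁻¹ = y⁻¹ * (x * z * x⁻¹) * y := by group
      _ = z := by rw [hz]; group
  have sq_case : ∀ {y : Fi22}, y = T ^ i → y * y = 1 → y = 1 := fun {y} hy hy2 => by
    have h11 : y ^ 11 = 1 := by rw [hy, ← pow_mul, mul_comm, pow_mul, T_pow11, one_pow]
    rw [show 11 = 2 * 5 + 1 from rfl, pow_succ, pow_mul, pow_two, hy2, one_pow, one_mul] at h11
    exact h11
  rcases hi with hi | hi
  · exact absurd (sq_case (hinj _ hi) h2) hne
  · have hx := hinj _ hi
    have h3 : T ^ i * T ^ i = 1 := by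
      rw [hx, mul_assoc, ← mul_assoc (dp pt), (T_comm.pow_left i).symm.eq, mul_assoc, dp_sq, mul_one] at h2
      exact h2
    rw [hx, sq_case rfl h3, one_mul]

end CfsgLib.Sporadic.CosetCert.FiP.OutFi22
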