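import Cfsg.Agent.Lib.Sporadic.Fi22Out.Data
import Cfsg.Agent.Lib.Sporadic.FiData.FiTable
import Cfsg.Agent.Lib.Sporadic.CosetCertWords

/-!
Checks for the outer automorphism group of Fi22.
-/

set_option autoImplicit false

namespace CfsgLib.Sporadic.CosetCert.FiP.OutFi22

open FiData (table)

/-- A power of the word of order eleven. -/
def tPow (i : ℕ) : List ℕ := (List.replicate i tW).flatten

/-- The word of a transposition, from half of it and the middle letter. -/
def fullWord (h : List ℕ × ℕ) : List ℕ := h.1 ++ h.2 :: h.1.reverse

/-- A word carries the point to the point of a generator. -/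
noncomputable def halfK (p : ℕ) (h : List ℕ × ℕ) : Bool :=
  Nat.blt h.2 9 && h.1.all (fun x => Nat.blt x 9) && Nat.beq (table.imgW h.1 p) (genPts.getD h.2 3510)

/-- Only one point is fixed by the element of order eleven. -/
noncomputable def fixTK : Bool :=
  (List.range 3510).all fun v => !(Nat.beq (table.imgW tW v) v) || Nat.beq v 0

/-- The candidates are the points not fixed by the first generator. -/
noncomputable def scanK : Bool :=
  (List.range 3510).all fun v => Nat.beq (table.imgW [0] v) v || Nat.testBit candB v

/-- The listed orbits are orbits of the representatives. -/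
noncomputable def orbitK : Bool :=
  Nat.beq repOrbits.length reps.length && (List.range repOrbits.length).all fun k =>
    let o := repOrbits.getD k []
    Nat.beq o.length 11 && Nat.beq (o.getD 0 3510) (reps.getD k (3510, [], 0)).1 &&
      (List.range 10).all fun i => Nat.beq (table.imgW tW (o.getD i 3510)) (o.getD (i + 1) 3510)

/-- A set of points in binary. -/
noncomputable def bitsOf (o : List ℕ) : ℕ := o.foldr (fun p acc => Nat.lor (Nat.shiftLeft 1 p) acc) 0

/-- The set of candidates is the union of the listed orbits. -/
noncomputable def candK : Bool := Nat.beq (repOrbits.foldr (fun o acc => Nat.lor (bitsOf o) acc) 0) candB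

/-- The words of the representatives. -/
noncomputable def repK : Bool := reps.all fun r => Nat.blt r.1 3510 && halfK r.1 r.2

/-- The three tests. -/
noncomputable def testK (v : ℕ) (w : List ℕ) : Bool :=
  let a := table.imgW (tPow 2) v
  let b := table.imgW [0] (table.imgW (tPow 4) v)
  let c := table.imgW (tPow 5) (table.imgW w (table.imgW (tPow 1) v))
  Nat.beq (table.imgW w a) a && Nat.beq (table.imgW w b) b && !(Nat.beq (table.imgW w c) c)

/-- Only two representatives pass the tests. -/
noncomputable def uniqueK : Bool :=
  reps.all fun r => !(testK r.1 (fullWord r.2)) || Nat.beq r.1 sepPt || Nat.beq r.1 partner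

/-- The chosen point passes the tests. -/
noncomputable def selfK : Bool :=
  reps.all (fun r => !(Nat.beq r.1 sepPt) || testK r.1 (fullWord r.2)) && reps.any fun r => Nat.beq r.1 sepPt

/-- The list of points ends with those of the generators and is derived from the first twelve. -/
noncomputable def closK : Bool :=
  Nat.beq (closPts.getD 0 3510) 0 &&
    (List.range 11).all (fun i => Nat.beq (closPts.getD (1 + i) 3510) (table.imgW (tPow i) sepPt)) &&
    (List.range closDer.length).all (fun m =>
      let d := closDer.getD m (closPts.length, closPts.length)
      Nat.blt d.1 (12 + m) && Nat.blt d.2 (12 + m) &&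
        halfK (closPts.getD d.1 3510) (closHalf.getD d.1 ([], 0)) &&
          Nat.beq (table.imgW (fullWord (closHalf.getD d.1 ([], 0))) (closPts.getD d.2 3510))
            (closPts.getD (12 + m) 3510)) &&
    (List.range 9).all fun x => Nat.blt (genIx.getD x closPts.length) closPts.length &&
      Nat.beq (closPts.getD (genIx.getD x closPts.length) 3510) (genPts.getD x 3510)

/-- The two words give transpositions differing from the first. -/
noncomputable def sepK : Bool :=
  sepHalf.all fun r => halfK r.1 r.2 && [0, 1].any fun u =>
    !(Nat.beq (table.imgW [0] u) (table.imgW (fullWord r.2) u))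

/-- One value of the symmetry. -/
noncomputable def symAt (v : ℕ) : ℕ :=
  Nat.mod (Nat.shiftRight (symTab.getD (Nat.div v 64) 0) (Nat.mul 16 (Nat.mod v 64))) 65536

/-- The symmetry intertwines the letters and is an involution. -/
noncomputable def symK : Bool :=
  (List.range 3510).all (fun v => Nat.blt (symAt v) 3510 && Nat.beq (symAt (symAt v)) v &&
    (List.range 9).all fun x =>
      Nat.beq (symAt (table.imgW [x] v)) (table.imgW [symLetters.getD x 9] (symAt v))) &&
    Nat.beq (symAt (genPts.getD 0 3510)) (genPts.getD (symLetters.getD 0 9) 3510)

/-- The points fixed by a permutation given by a function. -/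
noncomputable def fixN (f : ℕ → ℕ) : ℕ :=
  Nat.rec 0 (fun v ih => bif Nat.beq (f v) v then Nat.succ ih else ih) 3510

end CfsgLib.Sporadic.CosetCert.FiP.OutFi22
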