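import Cfsg.Agent.Lib.Sporadic.FiPresented
import Cfsg.Agent.Lib.Sporadic.Fi22Out.Checks

/-!
The transpositions of the presented group Fi22 attached to its 3510 points.
-/

set_option autoImplicit false
set_option maxRecDepth 100000

open Cfsg.Spor

namespace CfsgLib.Sporadic.CosetCert.FiP.OutFi22

open FiData (table)

attribute [local irreducible] PTab.img

/-- The element of a word, letters in order of application. -/
noncomputable def el (L : List ℕ) : Fi22 := appProd coding.gen L

theorem el_append (A B : List ℕ) : el (A ++ B) = el B * el A := appProd_append _ A B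

theorem el_nil : el [] = 1 := rfl

theorem el_single (x : ℕ) : el [x] = coding.gen x := one_mul _

theorem el_img {L : List ℕ} (hL : ∀ x ∈ L, x < 9) (u : Fin table.N) :
    ((hom (el L) u : Fin table.N) : ℕ) = table.imgW L u := hom_word L hL u

theorem rel_one {r : FreeGroup Fi22.Gen} (hr : r ∈ coxRelators Fi22.edges ∪ {r | r ∈ Fi22.extra}) :
    PresentedGroup.mk (coxRelators Fi22.edges ∪ {r | r ∈ Fi22.extra}) r = 1 :=
  PresentedGroup.one_of_mem hr

theorem code_surj {x : ℕ} (hx : x < 9) : ∃ a : Fi22.Gen, code a = x := by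
  refine ⟨gens.getD x Fi22.Gen.a, ?_⟩
  revert x
  decide

theorem gen_sq {x : ℕ} (hx : x < 9) : coding.gen x * coding.gen x = 1 := by
  obtain ⟨a, rfl⟩ := code_surj hx
  rw [show coding.gen (code a) = PresentedGroup.of a from coding.gen_code a]
  have h := rel_one (Or.inl ⟨a, mem_nodes a, a, mem_nodes a, rfl⟩ :
    (FreeGroup.of a * FreeGroup.of a) ^ coxLabel Fi22.edges a a ∈ _)
  rw [show coxLabel Fi22.edges a a = 1 from if_pos rfl, pow_one, map_mul] at h
  exact h

theorem el_reverse {L : List ℕ} (hL : ∀ x ∈ L, x < 9) : el L.reverse = (el L)⁻¹ := by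
  induction L with
  | nil => simp [el_nil]
  | cons x t ih =>
    rw [List.reverse_cons, el_append, ih fun y hy => hL y (List.mem_cons_of_mem _ hy), el_single,
      show el (x :: t) = el t * coding.gen x from rfl, mul_inv_rev,
      inv_eq_of_mul_eq_one_right (gen_sq (hL x List.mem_cons_self))]

theorem hom_inv_apply (g : Fi22) (u : Fin table.N) : hom g⁻¹ (hom g u) = u := by
  rw [← Equiv.Perm.mul_apply, ← map_mul, inv_mul_cancel, map_one, Equiv.Perm.one_apply]

theorem stab_le {g : Fi22} (hg : hom g pt = pt) : g ∈ grpH := by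
  have := finite
  classical
  obtain ⟨e, he⟩ : ∃ S : Subgroup Fi22, ∀ a, a ∈ S ↔ hom a pt = pt :=
    ⟨(MulAction.stabilizer (Equiv.Perm (Fin table.N)) pt).comap hom, fun a => Iff.rfl⟩
  have hle : grpH ≤ e := fun a ha => (he a).2 (hom_fix a ha)
  have hidx : e.index = table.N := by
    let f : Fi22 ⧸ e → Fin table.N := Quotient.lift (fun a => hom a pt) fun a b h => by
      have := (he _).1 (QuotientGroup.leftRel_apply.1 h)
      rw [map_mul, Equiv.Perm.mul_apply, map_inv, Equiv.Perm.inv_def, Equiv.symm_apply_eq] at this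
      exact this.symm
    refine (Nat.card_eq_of_bijective f ⟨?_, fun u => ?_⟩).trans (Nat.card_fin _)
    · intro a b
      induction a using QuotientGroup.induction_on with
      | H a =>
        induction b using QuotientGroup.induction_on with
        | H b =>
          intro h
          refine (QuotientGroup.eq).2 ((he _).2 ?_)
          rw [map_mul, Equiv.Perm.mul_apply, map_inv, Equiv.Perm.inv_def, Equiv.symm_apply_eq]
          exact h.symm
    · obtain ⟨a, ha⟩ := transitive u
      exact ⟨QuotientGroup.mk a, ha⟩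
  have hrel := Subgroup.relIndex_mul_index hle
  rw [hidx, index_H_eq, show table.N = 3510 from rfl] at hrel
  exact (Subgroup.relIndex_eq_one.1 (Nat.eq_of_mul_eq_mul_right (by norm_num : 0 < 3510)
    (hrel.trans (one_mul _).symm))) ((he g).2 hg)

theorem words_comm : wordsH.all (fun r => allBelow (fun v =>
    Nat.beq (table.imgW (appWord code code r ++ [0]) v) (table.imgW ([0] ++ appWord code code r) v))
      table.N) = true := by decide +kernel

theorem words_lt : ∀ r ∈ wordsH, ∀ x ∈ appWord code code r, x < 9 := by decide +kernel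

theorem gen_zero_comm {k : Fi22} (hk : k ∈ grpH) : Commute k (coding.gen 0) := by
  induction hk using Subgroup.closure_induction with
  | mem k hk =>
    obtain ⟨r, hr, rfl⟩ := hk
    show _ = _
    rw [show PresentedGroup.mk (coxRelators Fi22.edges ∪ {r | r ∈ Fi22.extra}) r = el (appWord code code r) from
      coding.mk_eq r, ← el_single, ← el_append, ← el_append]
    refine card_eq.2 (Equiv.ext fun u => Fin.ext ?_)
    have hl : ∀ x ∈ appWord code code r ++ [0], x < 9 := by
      intro x hx
      rcases List.mem_append.1 hx with hx | hx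
      · exact words_lt r hr x hx
      · simp at hx; omega
    rw [el_img (fun x hx => hl x (by simp at hx ⊢; tauto)), el_img hl]
    exact (Nat.eq_of_beq_eq_true (of_allBelow (List.all_eq_true.1 words_comm r hr) u u.2)).symm
  | one => exact Commute.one_left _
  | mul a b _ _ iha ihb => exact iha.mul_left ihb
  | inv a _ iha => exact iha.inv_left

/-- The transposition of a point. -/
noncomputable def dp (p : Fin table.N) : Fi22 :=
  (transitive p).choose * coding.gen 0 * (transitive p).choose⁻¹

theorem dp_eq {g : Fi22} {p : Fin table.N} (hg : hom g pt = p) : dp p = g * coding.gen 0 * g⁻¹ := by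
  have hc := (transitive p).choose_spec
  rw [dp]
  generalize (transitive p).choose = c at hc ⊢
  have hk : g⁻¹ * c ∈ grpH := stab_le (by
    rw [map_mul, Equiv.Perm.mul_apply, hc, ← hg, hom_inv_apply])
  have := (gen_zero_comm hk).eq
  calc c * coding.gen 0 * c⁻¹ = g * (g⁻¹ * c * coding.gen 0) * c⁻¹ := by group
    _ = g * (coding.gen 0 * (g⁻¹ * c)) * c⁻¹ := by rw [this]
    _ = g * coding.gen 0 * g⁻¹ := by group

theorem conj_dp (g : Fi22) (p : Fin table.N) : g * dp p * g⁻¹ = dp (hom g p) := by
  obtain ⟨c, hc⟩ := transitive p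
  rw [dp_eq hc, dp_eq (g := g * c) (by rw [map_mul, Equiv.Perm.mul_apply, hc])]
  group

theorem comm_of_fix {g : Fi22} {p : Fin table.N} (h : hom g p = p) : Commute g (dp p) := by
  have := conj_dp g p
  rw [h, mul_inv_eq_iff_eq_mul] at this
  exact this

theorem dp_pt : dp pt = coding.gen 0 := by
  rw [dp_eq (g := 1) (by rw [map_one, Equiv.Perm.one_apply]), one_mul, inv_one, mul_one]

theorem pts_lt : ∀ x < 9, genPts.getD x 3510 < table.N := by decide +kernel

/-- The point of a generator. -/
noncomputable def gpt (x : ℕ) : Fin table.N :=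
  if h : genPts.getD x 3510 < table.N then ⟨genPts.getD x 3510, h⟩ else pt

theorem gpt_val {x : ℕ} (hx : x < 9) : (gpt x : ℕ) = genPts.getD x 3510 := by
  rw [gpt, dif_pos (pts_lt x hx)]

theorem tree_ok : treePairs.all (fun e =>
    Nat.beq (table.imgW [e.2, e.1] (genPts.getD e.1 3510)) (genPts.getD e.2 3510)) = true := by decide +kernel

theorem braid {x y : ℕ} (h : (x, y) ∈ treePairs) :
    coding.gen y = coding.gen x * coding.gen y * coding.gen x * (coding.gen x * coding.gen y)⁻¹ := by
  obtain ⟨a, ha, b, hb, hl⟩ : ∃ a, code a = x ∧ ∃ b, code b = y ∧ coxLabel Fi22.edges a b = 3 := by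
    simp only [treePairs, List.mem_cons, Prod.mk.injEq, List.not_mem_nil, or_false] at h
    refine ⟨gens.getD x Fi22.Gen.a, ?_, gens.getD y Fi22.Gen.a, ?_, ?_⟩ <;>
      rcases h with h | h | h | h | h | h | h | h <;> obtain ⟨rfl, rfl⟩ := h <;> decide
  have h3 : (coding.gen x * coding.gen y) ^ 3 = 1 := by
    rw [← ha, ← hb, show coding.gen (code a) = PresentedGroup.of a from coding.gen_code a,
      show coding.gen (code b) = PresentedGroup.of b from coding.gen_code b]
    have := rel_one (Or.inl ⟨a, mem_nodes a, b, mem_nodes b, rfl⟩ :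
        (FreeGroup.of a * FreeGroup.of b) ^ coxLabel Fi22.edges a b ∈ _)
    rw [map_pow, map_mul, hl] at this
    exact this
  have hyy := gen_sq (show y < 9 by rw [← hb]; cases b <;> decide)
  have hxx := gen_sq (show x < 9 by rw [← ha]; cases a <;> decide)
  generalize coding.gen x = u at h3 hxx ⊢
  generalize coding.gen y = v at h3 hyy ⊢
  have hu : u⁻¹ = u := inv_eq_of_mul_eq_one_right hxx
  have hv : v⁻¹ = v := inv_eq_of_mul_eq_one_right hyy
  rw [mul_inv_rev, hu, hv]
  calc v = (u * v) ^ 3 * v := by rw [h3, one_mul]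
    _ = u * v * u * (v * u) * (v * v) := by simp only [pow_succ, pow_zero, one_mul, mul_assoc]
    _ = u * v * u * (v * u) := by rw [hyy, mul_one]

theorem gen_step {x y : ℕ} (h : (x, y) ∈ treePairs) (hx : coding.gen x = dp (gpt x)) :
    coding.gen y = dp (gpt y) := by
  have hlt : x < 9 ∧ y < 9 :=
    (show ∀ e ∈ treePairs, e.1 < 9 ∧ e.2 < 9 by decide) (x, y) h
  have hp : hom (el [y, x]) (gpt x) = gpt y := by
    refine Fin.ext ?_
    rw [el_img (by simp [hlt.1, hlt.2]), gpt_val hlt.1, gpt_val hlt.2]
    exact Nat.eq_of_beq_eq_true (List.all_eq_true.1 tree_ok _ h)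
  have e : el [y, x] = coding.gen x * coding.gen y := by
    show 1 * coding.gen x * coding.gen y = _
    rw [one_mul]
  rw [← hp, ← conj_dp, ← hx, e]
  exact braid h

theorem gen_eq_dp : ∀ x < 9, coding.gen x = dp (gpt x) := by
  have h0 : coding.gen 0 = dp (gpt 0) := by
    rw [show gpt 0 = pt from Fin.ext (by rw [gpt_val (by norm_num)]; rfl), dp_pt]
  have h1 := gen_step (x := 0) (y := 1) (by decide) h0
  have h2 := gen_step (x := 1) (y := 2) (by decide) h1
  have h3 := gen_step (x := 2) (y := 3) (by decide) h2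
  have h4 := gen_step (x := 3) (y := 4) (by decide) h3
  have h5 := gen_step (x := 4) (y := 5) (by decide) h4
  have h6 := gen_step (x := 5) (y := 6) (by decide) h5
  have h7 := gen_step (x := 3) (y := 7) (by decide) h3
  have h8 := gen_step (x := 7) (y := 8) (by decide) h7
  intro x hx
  interval_cases x <;> assumption

theorem sub_gens : Subgroup.closure (coding.gen '' {x | x < 9}) = ⊤ := by
  rw [eq_top_iff, ← PresentedGroup.closure_range_of]
  refine (Subgroup.closure_le _).2 ?_
  rintro _ ⟨a, rfl⟩
  exact Subgroup.subset_closure ⟨code a, by cases a <;> decide, coding.gen_code a⟩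

theorem hom_ext {M : Type*} [Group M] {f g : Fi22 →* M} (h : ∀ x < 9, f (coding.gen x) = g (coding.gen x)) :
    f = g := MonoidHom.eq_of_eqOn_dense sub_gens fun _ ⟨x, hx, e⟩ => e ▸ h x hx

theorem eq_one_of_fix {g : Fi22} (h : ∀ x < 9, hom g (gpt x) = gpt x) : g = 1 := by
  have hc : g ∈ Subgroup.center Fi22 := by
    rw [Subgroup.mem_center_iff]
    intro a
    have := hom_ext (f := (MulAut.conj g).toMonoidHom) (g := MonoidHom.id Fi22) fun x hx => by
      show g * coding.gen x * g⁻¹ = coding.gen x
      rw [gen_eq_dp x hx, conj_dp, h x hx]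
    have h2 : g * a * g⁻¹ = a := DFunLike.congr_fun this a
    exact (mul_inv_eq_iff_eq_mul.1 h2).symm
  have := isSimple
  rcases IsSimpleGroup.eq_bot_or_eq_top_of_normal (Subgroup.center Fi22) inferInstance with e | e
  · rw [e] at hc; exact Subgroup.mem_bot.1 hc
  · exfalso
    have := (Subgroup.mem_center_iff.1 (e ▸ Subgroup.mem_top (coding.gen 1) :
      coding.gen 1 ∈ Subgroup.center Fi22)) (coding.gen 0)
    have h2 := congrArg (fun q => ((hom q pt : Fin table.N) : ℕ)) this
    rw [show coding.gen 0 * coding.gen 1 = el [1, 0] from by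
        show _ = 1 * coding.gen 0 * coding.gen 1; rw [one_mul],
      show coding.gen 1 * coding.gen 0 = el [0, 1] from by
        show _ = 1 * coding.gen 1 * coding.gen 0; rw [one_mul],
      el_img (by decide), el_img (by decide)] at h2
    revert h2
    show table.imgW [1, 0] 0 = table.imgW [0, 1] 0 → False
    decide +kernel

/-- The test on the points of the generators. -/
noncomputable def sameK (A B : List ℕ) : Bool :=
  genPts.all fun p => Nat.beq (table.imgW A p) (table.imgW B p)

theorem eq_of_sameK {A B : List ℕ} (hA : ∀ x ∈ A, x < 9) (hB : ∀ x ∈ B, x < 9) (h : sameK A B = true) :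
    el A = el B := by
  refine (inv_mul_eq_one.1 (eq_one_of_fix fun x hx => ?_)).symm
  rw [map_mul, Equiv.Perm.mul_apply, map_inv, Equiv.Perm.inv_def, Equiv.symm_apply_eq]
  refine Fin.ext ?_
  rw [el_img hA, el_img hB, gpt_val hx]
  refine Nat.eq_of_beq_eq_true (List.all_eq_true.1 h _ ?_)
  have hlen : x < genPts.length := hx
  rw [List.getD_eq_getElem _ _ hlen]
  exact List.getElem_mem hlen

theorem dp_sq (p : Fin table.N) : dp p * dp p = 1 := by
  obtain ⟨c, hc⟩ := transitive p
  rw [dp_eq hc]
  calc _ = c * (coding.gen 0 * coding.gen 0) * c⁻¹ := by group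
    _ = 1 := by rw [gen_sq (by norm_num), mul_one, mul_inv_cancel]

theorem dp_ne_one (p : Fin table.N) : dp p ≠ 1 := by
  obtain ⟨c, hc⟩ := transitive p
  rw [dp_eq hc, Ne, conj_eq_one_iff]
  intro e
  have h := congrArg (fun q => ((hom q ⟨1, two_le⟩ : Fin table.N) : ℕ)) e
  rw [← el_single, el_img (by simp)] at h
  simp only [map_one, Equiv.Perm.one_apply] at h
  revert h
  show table.imgW [0] 1 = 1 → False
  decide +kernel

/-- A word made from half of it and a middle letter is the transposition of its point. -/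
theorem dp_of_half {p : Fin table.N} {h : List ℕ × ℕ} (hK : halfK p h = true) :
    dp p = el (fullWord h) := by
  simp only [halfK, Bool.and_eq_true, List.all_eq_true] at hK
  obtain ⟨⟨hx, hL⟩, hp⟩ := hK
  obtain ⟨L, x⟩ := h
  have hx' : x < 9 := Nat.le_of_ble_eq_true hx
  have hL' : ∀ y ∈ L, y < 9 := fun y hy => Nat.le_of_ble_eq_true (hL y hy)
  have hg : hom (el L) p = gpt x := Fin.ext (by
    rw [el_img hL', gpt_val hx']
    exact Nat.eq_of_beq_eq_true hp)
  show _ = el (L ++ ([x] ++ L.reverse))
  rw [el_append, el_append, el_single, el_reverse hL', gen_eq_dp x hx', ← hg, ← conj_dp (el L)]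
  group

theorem fullWord_lt {p : ℕ} {h : List ℕ × ℕ} (hK : halfK p h = true) : ∀ x ∈ fullWord h, x < 9 := by
  simp only [halfK, Bool.and_eq_true, List.all_eq_true] at hK
  intro y hy
  simp only [fullWord, List.mem_append, List.mem_cons, List.mem_reverse] at hy
  rcases hy with hy | rfl | hy
  · exact Nat.le_of_ble_eq_true (hK.1.2 y hy)
  · exact Nat.le_of_ble_eq_true hK.1.1
  · exact Nat.le_of_ble_eq_true (hK.1.2 y hy)

theorem sep_ne {r : ℕ × List ℕ × ℕ} (hr : r ∈ sepHalf) (hlt : r.1 < table.N) :
    dp pt ≠ dp ⟨r.1, hlt⟩ := by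
  intro e
  have hK := List.all_eq_true.1 sep_ok r hr
  rw [Bool.and_eq_true] at hK
  obtain ⟨u, hu, hne⟩ := List.any_eq_true.1 hK.2
  have hu' : u < table.N := by
    simp only [List.mem_cons, List.not_mem_nil, or_false] at hu
    rcases hu with rfl | rfl
    · exact lt_of_lt_of_le Nat.two_pos two_le
    · exact two_le
  have h := congrArg (fun g => ((hom g ⟨u, hu'⟩ : Fin table.N) : ℕ)) e
  simp only [dp_pt, ← el_single, dp_of_half (p := ⟨r.1, hlt⟩) hK.1, el_img (fullWord_lt hK.1),
    el_img (show ∀ x ∈ [0], x < 9 by simp)] at h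
  rw [Nat.beq_eq.mpr h] at hne
  exact Bool.false_ne_true hne

theorem dp_pt_ne {b : Fin table.N} (hb : b ≠ pt) : dp pt ≠ dp b := by
  classical
  intro e
  obtain ⟨O₁, hO₁, e₁, hc₁⟩ := suborbit (b := 6) (by decide +kernel) FiData.search693_ok
  obtain ⟨O₂, hO₂, e₂, hc₂⟩ := suborbit (b := 1) (by decide +kernel) FiData.search2816_ok
  rw [show FiData.search693.length = 692 by decide +kernel] at hc₁
  rw [show FiData.search2816.length = 2815 by decide +kernel] at hc₂
  have hp₁ : pt ∉ O₁ := by
    rw [e₁, PTab.mem_maskSet]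
    show ¬ Nat.testBit _ 0 = true
    decide +kernel
  have hp₂ : pt ∉ O₂ := by
    rw [e₂, PTab.mem_maskSet]
    show ¬ Nat.testBit _ 0 = true
    decide +kernel
  have hdisj : Disjoint O₁ O₂ := by
    refine disjoint_of_not_mem _ _ hO₁ hO₂ ?_
    rw [e₁, PTab.mem_maskSet]
    show ¬ Nat.testBit _ 1 = true
    decide +kernel
  have huniv : insert pt (O₁ ∪ O₂) = Finset.univ := by
    apply Finset.eq_univ_of_card
    rw [Finset.card_insert_of_notMem (by simp [hp₁, hp₂]), Finset.card_union_of_disjoint hdisj, hc₁, hc₂,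
      Fintype.card_fin]
    rfl
  have key : ∀ (r : Fin table.N), b ∈ MulAction.orbit (grpH.map hom) r → dp pt = dp r := by
    rintro r ⟨⟨π, hπ⟩, hmv⟩
    obtain ⟨k, hk, rfl⟩ := Subgroup.mem_map.1 hπ
    have hb' : hom k r = b := hmv
    have h1 := congrArg (fun g => k⁻¹ * g * k⁻¹⁻¹) e
    simp only [conj_dp] at h1
    rw [hom_fix _ (inv_mem hk), ← hb', hom_inv_apply] at h1
    exact h1
  have hb2 : b ∈ insert pt (O₁ ∪ O₂) := huniv ▸ Finset.mem_univ b
  simp only [Finset.mem_insert, Finset.mem_union] at hb2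
  rcases hb2 with h | h | h
  · exact hb h
  · rw [← Finset.mem_coe, hO₁] at h
    exact sep_ne (r := sepHalf.getD 0 (0, [], 0)) (by decide) (show 6 < table.N by decide +kernel) (key _ h)
  · rw [← Finset.mem_coe, hO₂] at h
    exact sep_ne (r := sepHalf.getD 1 (0, [], 0)) (by decide) (show 1 < table.N from two_le) (key _ h)

theorem dp_injective : Function.Injective dp := by
  intro a b e
  by_contra hne
  obtain ⟨c, hc⟩ := transitive a
  have h0 : hom c⁻¹ a = pt := by rw [← hc, hom_inv_apply]
  have h1 := congrArg (fun g => c⁻¹ * g * c⁻¹⁻¹) e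
  simp only [conj_dp, h0] at h1
  exact dp_pt_ne (fun hb => hne ((hom c⁻¹).injective (h0.trans hb.symm))) h1

end CfsgLib.Sporadic.CosetCert.FiP.OutFi22
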