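import Cfsg.Agent.Lib.Sporadic.Fi22Out.Core
import Cfsg.Prelude.Def_KGroupFacts
import Mathlib.GroupTheory.Perm.Cycle.Type

/-!
The symmetry of the diagram gives an automorphism of Fi22 which is not inner: it is an odd permutation of
the 3510 points, while all elements of the group are even.
-/

set_option autoImplicit false
set_option maxRecDepth 100000

open Cfsg.Spor

namespace CfsgLib.Sporadic.CosetCert.FiP.OutFi22

open FiData (table)

attribute [local irreducible] PTab.img symAt

/-- The symmetry of the diagram. -/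
def swapGen : Fi22.Gen → Fi22.Gen
  | .a => .g | .b => .f | .c => .e | .d => .d | .e => .c | .f => .b | .g => .a | .h => .h | .i => .i

theorem swap_rel : ∀ r ∈ coxRelators Fi22.edges ∪ {r | r ∈ Fi22.extra},
    FreeGroup.lift (fun a => (PresentedGroup.of (swapGen a) : Fi22)) r = 1 := by
  have hlift : ∀ r : FreeGroup Fi22.Gen,
      FreeGroup.lift (fun a => (PresentedGroup.of (swapGen a) : Fi22)) r =
        PresentedGroup.mk (coxRelators Fi22.edges ∪ {r | r ∈ Fi22.extra}) (FreeGroup.map swapGen r) := by
    intro r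
    have : FreeGroup.lift (fun a => (PresentedGroup.of (swapGen a) : Fi22)) =
        (PresentedGroup.mk _).comp (FreeGroup.map swapGen) :=
      FreeGroup.ext_hom _ _ fun a => by simp [PresentedGroup.of]
    exact DFunLike.congr_fun this r
  intro r hr
  rw [hlift]
  rcases hr with ⟨x, -, y, -, rfl⟩ | hr
  · refine rel_one (Or.inl ⟨swapGen x, mem_nodes _, swapGen y, mem_nodes _, ?_⟩)
    rw [map_pow, map_mul, FreeGroup.map.of, FreeGroup.map.of]
    have hl : coxLabel Fi22.edges (swapGen x) (swapGen y) = coxLabel Fi22.edges x y := by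
      cases x <;> cases y <;> decide
    rw [hl]
  · have hK : ∀ r ∈ Fi22.extra, (∀ z ∈ appWord code code (FreeGroup.map swapGen r), z < 9) ∧
        sameK (appWord code code (FreeGroup.map swapGen r)) [] = true := by decide +kernel
    obtain ⟨h1, h2⟩ := hK r hr
    rw [coding.mk_eq, ← el_nil]
    exact eq_of_sameK h1 (by simp) h2

/-- The homomorphism of the symmetry. -/
noncomputable def symHom : Fi22 →* Fi22 := PresentedGroup.toGroup swap_rel

theorem symHom_of (a : Fi22.Gen) : symHom (PresentedGroup.of a) = PresentedGroup.of (swapGen a) :=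
  PresentedGroup.toGroup.of swap_rel

theorem symHom_sq (g : Fi22) : symHom (symHom g) = g := by
  have : symHom.comp symHom = MonoidHom.id Fi22 := by
    refine PresentedGroup.ext fun a => ?_
    show symHom (symHom (PresentedGroup.of a)) = PresentedGroup.of a
    rw [symHom_of, symHom_of]
    cases a <;> rfl
  exact DFunLike.congr_fun this g

/-- The automorphism of the symmetry. -/
noncomputable def sym : MulAut Fi22 :=
  { toFun := symHom, invFun := symHom, left_inv := symHom_sq, right_inv := symHom_sq,
    map_mul' := symHom.map_mul }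

theorem sym_gen {x : ℕ} (hx : x < 9) : sym (coding.gen x) = coding.gen (symLetters.getD x 9) := by
  obtain ⟨a, rfl⟩ := code_surj hx
  show symHom (coding.gen (code a)) = _
  rw [show coding.gen (code a) = PresentedGroup.of a from coding.gen_code a, symHom_of,
    ← coding.gen_code (swapGen a)]
  cases a <;> rfl

theorem sym_el : ∀ L : List ℕ, (∀ x ∈ L, x < 9) → sym (el L) = el (L.map fun x => symLetters.getD x 9) := by
  intro L
  induction L with
  | nil => intro _; exact map_one _
  | cons x t ih =>
    intro h
    rw [show x :: t = [x] ++ t from rfl, el_append, List.map_append, el_append, map_mul,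
      ih fun y hy => h y (List.mem_cons_of_mem _ hy), el_single, sym_gen (h x List.mem_cons_self)]
    exact congrArg _ (el_single _).symm

theorem sym_spec {v : ℕ} (hv : v < table.N) : symAt v < table.N ∧ symAt (symAt v) = v ∧
    ∀ x < 9, symAt (table.imgW [x] v) = table.imgW [symLetters.getD x 9] (symAt v) := by
  have hK := sym_ok
  simp only [symK, Bool.and_eq_true, List.all_eq_true, List.mem_range] at hK
  obtain ⟨⟨h1, h2⟩, h3⟩ := hK.1 v hv
  exact ⟨Nat.le_of_ble_eq_true h1, Nat.eq_of_beq_eq_true h2, fun x hx => Nat.eq_of_beq_eq_true (h3 x hx)⟩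

/-- The permutation of the points given by the table. -/
noncomputable def symPerm : Equiv.Perm (Fin table.N) where
  toFun v := ⟨symAt v, (sym_spec v.2).1⟩
  invFun v := ⟨symAt v, (sym_spec v.2).1⟩
  left_inv v := Fin.ext (sym_spec v.2).2.1
  right_inv v := Fin.ext (sym_spec v.2).2.1

theorem sym_letters_lt : ∀ x < 9, symLetters.getD x 9 < 9 := by decide

theorem gen_img {x : ℕ} (hx : x < 9) (u : Fin table.N) :
    ((hom (coding.gen x) u : Fin table.N) : ℕ) = table.imgW [x] u := by
  rw [← el_single, el_img (by simpa using hx)]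

theorem sym_equivariant (g : Fi22) (u : Fin table.N) : symPerm (hom g u) = hom (sym g) (symPerm u) := by
  have key : hom.comp symHom = ((MulAut.conj symPerm).toMonoidHom.comp hom) := by
    refine hom_ext fun x hx => Equiv.ext fun w => ?_
    show hom (sym (coding.gen x)) w = symPerm (hom (coding.gen x) (symPerm.symm w))
    rw [sym_gen hx]
    refine Fin.ext ?_
    rw [gen_img (sym_letters_lt x hx)]
    show _ = symAt ((hom (coding.gen x) (symPerm.symm w) : Fin table.N) : ℕ)
    rw [gen_img hx, (sym_spec (symPerm.symm w).2).2.2 x hx]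
    show _ = table.imgW _ (symAt (symAt w))
    rw [(sym_spec w.2).2.1]
  have h := DFunLike.congr_fun (DFunLike.congr_fun key g) (symPerm u)
  simp only [MonoidHom.comp_apply, MulEquiv.coe_toMonoidHom, MulAut.conj_apply, Equiv.Perm.mul_apply,
    Equiv.Perm.inv_def, Equiv.symm_apply_apply] at h
  exact h.symm

theorem sym_dp (u : Fin table.N) : sym (dp u) = dp (symPerm u) := by
  have h0 : symPerm (gpt 0) = gpt 6 := Fin.ext (by
    show symAt ((gpt 0 : Fin table.N) : ℕ) = _
    rw [gpt_val (by norm_num), gpt_val (by norm_num)]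
    have hK := sym_ok
    simp only [symK, Bool.and_eq_true] at hK
    exact Nat.eq_of_beq_eq_true hK.2)
  obtain ⟨c, hc⟩ := transitive u
  have hpt : gpt 0 = pt := Fin.ext (by rw [gpt_val (by norm_num)]; rfl)
  rw [← hc, ← conj_dp, map_mul, map_mul, map_inv, sym_equivariant, ← conj_dp, ← hpt, h0,
    ← gen_eq_dp 0 (by norm_num), ← gen_eq_dp 6 (by norm_num), sym_gen (by norm_num)]
  rfl

theorem sign_of_sq {n : ℕ} (σ : Equiv.Perm (Fin n)) (hσ : σ * σ = 1) {k m : ℕ}
    (hfix : (Finset.univ.filter fun u => σ u = u).card = m) (hn : n = m + 2 * k) :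
    Equiv.Perm.sign σ = (-1) ^ k := by
  have h2 : ∀ c ∈ σ.cycleType, c = 2 := fun c hc => by
    have hle := Equiv.Perm.two_le_of_mem_cycleType hc
    have hd := (Equiv.Perm.dvd_of_mem_cycleType hc).trans (orderOf_dvd_of_pow_eq_one (n := 2) (by rw [pow_two, hσ]))
    exact le_antisymm (Nat.le_of_dvd two_pos hd) hle
  have hrep : σ.cycleType = Multiset.replicate σ.cycleType.card 2 := Multiset.eq_replicate_card.2 h2
  have hsum : σ.cycleType.sum = σ.cycleType.card * 2 := by
    conv_lhs => rw [hrep]
    simp
  have hsup : σ.cycleType.sum = n - m := by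
    rw [Equiv.Perm.sum_cycleType, ← hfix]
    have : σ.support = Finset.univ \ (Finset.univ.filter fun u => σ u = u) := by ext u; simp
    rw [this, Finset.card_univ_diff, Fintype.card_fin]
  have hk : σ.cycleType.card = k := by omega
  rw [Equiv.Perm.sign_of_cycleType, hsum, hk, show k * 2 + k = 2 * k + k by ring, pow_add, pow_mul]
  simp

theorem card_fix (f : ℕ → ℕ) (σ : Equiv.Perm (Fin table.N)) (hσ : ∀ u, ((σ u : Fin table.N) : ℕ) = f u) :
    (Finset.univ.filter fun u => σ u = u).card = fixN f := by
  have key : ∀ n, ((Finset.range n).filter fun v => f v = v).card =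
      (Nat.rec 0 (fun v ih => bif Nat.beq (f v) v then Nat.succ ih else ih) n : ℕ) := by
    intro n
    induction n with
    | zero => rfl
    | succ n ih =>
      show _ = (bif Nat.beq (f n) n then Nat.succ _ else _)
      rw [Finset.range_add_one, Finset.filter_insert, ← ih]
      by_cases h : f n = n
      · rw [Nat.beq_eq.mpr h, if_pos h, Finset.card_insert_of_notMem (by simp)]
        rfl
      · rw [Bool.eq_false_iff.mpr (fun hh => h (Nat.eq_of_beq_eq_true hh)), if_neg h]
        rfl
  refine Eq.trans ?_ (key 3510)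
  refine Finset.card_bij (fun u _ => (u : ℕ)) (fun u hu => ?_) (fun a _ b _ e => Fin.ext e) (fun v hv => ?_)
  · simp only [Finset.mem_filter, Finset.mem_univ, true_and] at hu
    refine Finset.mem_filter.2 ⟨Finset.mem_range.2 u.2, ?_⟩
    rw [← hσ, hu]
  · obtain ⟨hv1, hv2⟩ := Finset.mem_filter.1 hv
    exact ⟨⟨v, Finset.mem_range.1 hv1⟩, Finset.mem_filter.2 ⟨Finset.mem_univ _, Fin.ext ((hσ _).trans hv2)⟩, rfl⟩

theorem sign_hom (g : Fi22) : Equiv.Perm.sign (hom g) = 1 := by
  have : (Equiv.Perm.sign.comp hom) = 1 := by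
    refine hom_ext fun x hx => ?_
    show Equiv.Perm.sign (hom (coding.gen x)) = 1
    rw [sign_of_sq (hom (coding.gen x)) (by rw [← map_mul, gen_sq hx, map_one]) (k := 1408) (m := 694)
      ((card_fix (fun v => table.imgW [x] v) _ (gen_img hx)).trans
        (Nat.eq_of_beq_eq_true (List.all_eq_true.1 gen_fix x (List.mem_range.2 hx)))) rfl]
    norm_num
  exact DFunLike.congr_fun this g

theorem sym_not_inner : sym ∉ Cfsg.Inn Fi22 := by
  rintro ⟨h, hh⟩
  have heq : symPerm = hom h := Equiv.ext fun u => dp_injective (by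
    rw [← sym_dp, ← hh, MulAut.conj_apply, conj_dp])
  have h1 := sign_of_sq symPerm (Equiv.ext fun v => Fin.ext (sym_spec v.2).2.1) (k := 1575) (m := 360)
    ((card_fix symAt symPerm fun _ => rfl).trans sym_fix) rfl
  rw [heq, sign_hom] at h1
  revert h1
  rw [Odd.neg_one_pow (by decide)]
  decide

end CfsgLib.Sporadic.CosetCert.FiP.OutFi22
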